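import Cfsg.Agent.Lib.Helper29.TcCox
import Cfsg.Prelude.Def_Spor_Fi22
import Cfsg.Agent.Lib.Helper29.FiE.Tab0

/-! Generated certificate data for FiE (Fi22): tables of a Todd–Coxeter trace and of the coset action. -/

set_option autoImplicit false

namespace Cfsg.Agent.Lib.Helper29.FiE

open Cfsg.Agent.Lib.Helper29.TcTrace Cfsg.Agent.Lib.Helper29.TcCert Cfsg.Agent.Lib.Helper29.TcPerm

def nodesL : List Cfsg.Spor.Fi22.Gen := [.b, .c, .d, .e]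
def edgesQ : List (Cfsg.Spor.Fi22.Gen × ℕ × Cfsg.Spor.Fi22.Gen) := [(.b, 3, .c), (.c, 3, .d), (.d, 3, .e)]
def extraWords : List (List (Cfsg.Spor.Fi22.Gen × Bool)) := [[(.a, true)],
  [(.f, true)],
  [(.g, true)],
  [(.h, true)],
  [(.i, true)]]
def hWords : List (List (Cfsg.Spor.Fi22.Gen × Bool)) := [[(.b, true)],
  [(.c, true)]]
def colOf : Cfsg.Spor.Fi22.Gen × Bool → ℕ
  | (.a, true) => 0
  | (.a, false) => 1
  | (.b, _) => 2
  | (.c, _) => 3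
  | (.d, _) => 4
  | (.e, _) => 5
  | (.f, true) => 6
  | (.f, false) => 7
  | (.g, true) => 8
  | (.g, false) => 9
  | (.h, true) => 10
  | (.h, false) => 11
  | (.i, true) => 12
  | (.i, false) => 13
def colLetters : List (Cfsg.Spor.Fi22.Gen × Bool) := [(.a, true), (.a, false), (.b, true), (.c, true), (.d, true), (.e, true), (.f, true), (.f, false), (.g, true), (.g, false), (.h, true), (.h, false), (.i, true), (.i, false)]
def invL : List ℕ := [1, 0, 2, 3, 4, 5, 7, 6, 9, 8, 11, 10, 13, 12]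
def vtree : WTree := (.node (.node (.node (.node (.node (.node (.leaf 31 0 []) (.leaf 29 0 [2, 14])) (.node (.leaf 9 0 [5, 5]) (.leaf 31 0 []))) (.node (.node (.leaf 4 0 [3, 3]) (.leaf 31 0 [])) (.node (.leaf 21 0 [6, 7]) (.leaf 31 0 [])))) (.node (.node (.node (.leaf 2 0 [2, 4, 2, 4]) (.leaf 31 0 [])) (.node (.leaf 13 0 [10]) (.leaf 31 0 []))) (.node (.node (.leaf 6 1 [5, 3, 5, 3]) (.leaf 31 0 [])) (.node (.leaf 25 0 [10, 11]) (.leaf 31 0 []))))) (.node (.node (.node (.node (.leaf 1 0 [2, 3, 2, 3, 2, 3]) (.leaf 30 0 [3, 15])) (.node (.leaf 11 0 [6]) (.leaf 31 0 []))) (.node (.node (.leaf 5 1 [4, 3, 4, 3, 4, 3]) (.leaf 31 0 [])) (.node (.leaf 23 0 [8, 9]) (.leaf 31 0 [])))) (.node (.node (.node (.leaf 3 0 [2, 5, 2, 5]) (.leaf 31 0 [])) (.node (.leaf 15 0 [0, 1]) (.leaf 31 0 []))) (.node (.node (.leaf 8 0 [4, 5, 4, 5, 4, 5]) (.leaf 31 0 [])) (.node (.leaf 27 0 [12, 13]) (.leaf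 31 0 [])))))) (.node (.node (.node (.node (.node (.leaf 0 0 [2, 2]) (.leaf 29 1 [14, 2])) (.node (.leaf 10 0 [0]) (.leaf 31 0 []))) (.node (.node (.leaf 5 0 [3, 4, 3, 4, 3, 4]) (.leaf 31 0 [])) (.node (.leaf 21 1 [7, 6]) (.leaf 31 0 [])))) (.node (.node (.node (.leaf 2 1 [4, 2, 4, 2]) (.leaf 31 0 [])) (.node (.leaf 14 0 [12]) (.leaf 31 0 []))) (.node (.node (.leaf 7 0 [4, 4]) (.leaf 31 0 [])) (.node (.leaf 25 1 [11, 10]) (.leaf 31 0 []))))) (.node (.node (.node (.node (.leaf 1 1 [3, 2, 3, 2, 3, 2]) (.leaf 30 1 [15, 3])) (.node (.leaf 12 0 [8]) (.leaf 31 0 []))) (.node (.node (.leaf 6 0 [3, 5, 3, 5]) (.leaf 31 0 [])) (.node (.leaf 23 1 [9, 8]) (.leaf 31 0 [])))) (.node (.node (.node (.leaf 3 1 [5, 2, 5, 2]) (.leaf 31 0 [])) (.node (.leaf 15 1 [1, 0]) (.leaf 31 0 []))) (.node (.node (.leaf 8 1 [5, 4, 5, 4, 5, 4]) (.leaf 31 0 [])) (.node (.leaf 27 1 [13, 12]) (.leaf 31 0 [])))))))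
noncomputable def VL : List ℕ := [V0, V1, V2, V3, V4, V5, V6, V7, V8, V9, V10, V11, V12, V13]
noncomputable def RL : List ℕ := [R0, R1, R2, R3, R4, R5, R6, R7, R8, R9, R10, R11, R12, R13, R14, R15]
noncomputable def D : Data := mkData 11 1320 20 8 2047 VL RL MG MT PAR PL FIN VERT vtree
def lay : Layout := ⟨11, 2047, 6, 63, 101⟩
def cols : List ℕ := [0, 1, 2, 3, 4, 5, 6, 7, 8, 9, 10, 11, 12, 13]
def baseL : List (List ℕ) := [[2, 2],
  [2, 3, 2, 3, 2, 3],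
  [2, 4, 2, 4],
  [2, 5, 2, 5],
  [3, 3],
  [3, 4, 3, 4, 3, 4],
  [3, 5, 3, 5],
  [4, 4],
  [4, 5, 4, 5, 4, 5],
  [5, 5],
  [0],
  [6],
  [8],
  [10],
  [12],
  [0, 1],
  [1, 0],
  [2, 2],
  [3, 3],
  [4, 4],
  [5, 5],
  [6, 7],
  [7, 6],
  [8, 9],
  [9, 8],
  [10, 11],
  [11, 10],
  [12, 13],
  [13, 12],
  [2, 14],
  [3, 15]]
noncomputable def LL : List ℕ := [L0, L1, L2, L3, L4, L5, L6, L7, L8, L9, L10, L11, L12, L13]
noncomputable def P : LP where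
  WL := 8
  WLn := 160
  mskL := 255
  LL := LL
  cols := [0, 1, 2, 3, 4, 5, 6, 7, 8, 9, 10, 11, 12, 13]
  rels := [[2, 2],
    [2, 3, 2, 3, 2, 3],
    [2, 4, 2, 4],
    [2, 5, 2, 5],
    [3, 3],
    [3, 4, 3, 4, 3, 4],
    [3, 5, 3, 5],
    [4, 4],
    [4, 5, 4, 5, 4, 5],
    [5, 5],
    [0],
    [6],
    [8],
    [10],
    [12],
    [0, 1],
    [1, 0],
    [2, 2],
    [3, 3],
    [4, 4],
    [5, 5],
    [6, 7],
    [7, 6],
    [8, 9],
    [9, 8],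
    [10, 11],
    [11, 10],
    [12, 13],
    [13, 12]]
  hws := [[2],
    [3]]
  twl := [[],
    [2],
    [3],
    [0],
    [1],
    [2],
    [3],
    [4],
    [5],
    [6],
    [7],
    [8],
    [9],
    [10],
    [11],
    [12],
    [13]]
  nH := 2
  bounds := [8, 32, 40, 64, 88, 112]

end Cfsg.Agent.Lib.Helper29.FiE
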