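import Cfsg.Agent.Lib.Helper29.FiE.Data

set_option autoImplicit false
set_option Elab.async false

namespace Cfsg.Agent.Lib.Helper29.FiE

open Cfsg.Agent.Lib.Helper29.TcTrace Cfsg.Agent.Lib.Helper29.TcCert Cfsg.Agent.Lib.Helper29.TcPerm

theorem ublk_0 : chkBlk D lay cols 128 120 0 0x56418000000000000000000002920c0000000000000000000013906000000000000000000000948300000000000000000000046418000000000000000000002b02800000000000000000000148140000000000000000000009c0a0000000000000000000004a05000000000000000000000230280000000000000000000015790000000000000000000000a3c80000000000000000000004de400000000000000000000024f21f79d71b6996071430175800000000000000000000000008bc800000000000000000000055a780000000000000000000028d3c000000000000000000001369e000000000000000000000934f00000000000000000000045a78000000000000000000002ac34000000000000000000001461a0000000000000000000009b0d0000000000000000000004986bef3ae36d32c0e29002eb00000000000000000000000001161a000000000000000000000aacb000000000000000000000516580000000000000000000026b2c0000000000000000000012596fbceb8db4cb0614002bac000000000000000000000000045658000000000000000000002aa2400000000000000000000145120000000000000000000009a89000000000000000000000494480000000000000000000022a24000000000000000000001548e000000000000000000000a2470000000000000000000004d238000000000000000000002491df79d71b6996073430175800000000000000000000000008a47000000000000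000000000550280000000000000000000028814000000000000000000001340a00000000000000000000092057de75c6da65830a0015d60000000000000000000000000228140000000000000000000015386000000000000000000000a1c30000000000000000000004ce18000000000000000000002470df79d71b69960f00811758000000000000000000000000089c300000000000000000000054c080000000000000000000028604000000000000000000001330200000000000000000000091817de75c6da6584050c05d6000000000000000000000000022604000000000000000000001527e000000000000000000000a13f0000000000000000000004c9f800000000000000000000244fdf79d71b69960c340057580000000000000000000000000893f000000000000000000000547e800000000000000000000283f400000000000000000000131fa00000000000000000000090fd7de75c6da6583c02015d60000000000000000000000000223f400000000000000000000151e4000000000000000000000a0f20000000000000000000004c79000000000000000000000243c9f79d71b69960034b19758000000000000000000000000088f20000000000000000000005458000000000000000000000282c0000000000000000000001316000000000000000000000090b07de75c6da65840a0015d60000000000000000000000000222c000000000000000000000150dc000000000000000000000a06e0000000000000000000004c37000000000000000000000241b9f79d71b69960f008117580000000000000000000000000886e00000000000000000000054318000000000000000000002818c00000000000000000000130c600000000000000000000090637de75c6da65800d2c15d600003ef3ae36d32c2028602eb0000000000000000000000000110c6000000000000000000000a8210000000000000000000005010800000000000000000000260840000000000000000000012042fbceb8db4cb0800408bac000000000000000000000000044108000000000000000000002a058000000000000000000001402c0000000000000000000009816000000000000000000000480b3ef3ae36d32c0069032eb00001f79d71b6996102800575800000000000000000000000008816000000000000000000000540000000000000000000000028000000000000000000000001300000000000000000000000090007de75c6da65800d2c65d600003ef3ae36d32c2001022eb000000000000000000000000011000fbceb8db4cb081b140bac0000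 = true := by decide +kernel
theorem up_0_1 : ∀ b, 0 ≤ b → b < 1 → ∃ J, chkBlk D lay cols 128 120 b J = true := fun b h1 h2 => by
  have hb : b = 0 := Nat.le_antisymm (Nat.le_of_lt_succ h2) h1
  subst hb; exact ⟨_, ublk_0⟩

end Cfsg.Agent.Lib.Helper29.FiE
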